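import Cfsg.Agent.H194.MOwn.SpCore
import Cfsg.Agent.H91.Symp
import Cfsg.Agent.H450.Wf.Tr

/-!
# Pairs of elements of order 3 in symplectic groups of characteristic 3: geometry

* `fix_vector` : semilinear maps `n`, `n ^ 3 = 1`, are unipotent on sections;
* `exists_E` : `(x, n x) ≠ 0`: there is an `n`-invariant totally isotropic `E ≤ x^⊥`, of dimension
  `m - 1`, `x ∉ E`;
* `fix_unique` : for `n` linear there is a unique `n`-invariant `M` with `E < M < E^⊥`.
-/

set_option autoImplicit false

namespace Cfsg.Agent.H450.Wf.Sp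

open Module Cfsg.Agent.ClassicalGeometry.SympBasic Cfsg.Agent.ClassicalGeometry.SympAutSemi
open Cfsg.Agent.ClassicalGeometry.SympGamma
open Cfsg.Agent.CpAut.Psp (toSemi isSemi_one)
open Cfsg.Agent.H957.T5V (IsScal)
open Cfsg.Agent.H194.MOwn.Spo

section vector

variable {F : Type*} [Field F] {V : Type*} [AddCommGroup V] [Module F V]

/-- `n` of order `3` is unipotent on sections. -/
theorem fix_vector [CharP F 3] {n : Equiv.Perm V} (hadd : ∀ u v, n (u + v) = n u + n v)
    (h3 : n ^ 3 = 1) {W1 W2 : Submodule F V} (hlt : W1 < W2) (h2 : ∀ v ∈ W2, n v ∈ W2) :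
    ∃ v ∈ W2, v ∉ W1 ∧ n v - v ∈ W1 := by
  have hsub : ∀ u v, n (u - v) = n u - n v := by
    intro u v
    have h := hadd (u - v) v
    rw [sub_add_cancel] at h
    rw [h, add_sub_cancel_right]
  have hnn : ∀ v, n (n (n v)) = v := fun v => by
    have h := DFunLike.congr_fun h3 v
    exact h
  have h33 : ∀ v : V, v + v + v = 0 := by
    intro v
    have h4 : (3 : F) = 0 := by
      have h := CharP.cast_eq_zero F 3
      exact_mod_cast h
    have h5 : (3 : F) • v = v + v + v := by
      rw [show (3 : F) = 1 + 1 + 1 by norm_num, add_smul, add_smul, one_smul]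
    rw [← h5, h4, zero_smul]
  obtain ⟨w, hw2, hw1⟩ := SetLike.exists_of_lt hlt
  by_cases c1 : n w - w ∈ W1
  · exact ⟨w, hw2, hw1, c1⟩
  · by_cases c2 : n (n w - w) - (n w - w) ∈ W1
    · exact ⟨n w - w, sub_mem (h2 w hw2) hw2, c1, c2⟩
    · refine ⟨n (n w - w) - (n w - w), sub_mem (h2 _ (sub_mem (h2 w hw2) hw2))
        (sub_mem (h2 w hw2) hw2), c2, ?_⟩
      have h4 : n (n (n w - w) - (n w - w)) - (n (n w - w) - (n w - w)) = 0 := by
        rw [hsub, hsub, hsub, hnn]
        have h5 := h33 (n w)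
        have h6 := h33 (n (n w))
        have h7 : w - n (n w) - (n (n w) - n w) - (n (n w) - n w - (n w - w)) =
          (n w + n w + n w) - (n (n w) + n (n w) + n (n w)) := by abel
        rw [h7, h5, h6, sub_zero]
      rw [h4]
      exact zero_mem _

end vector

variable {F : Type*} [Field F] {m : ℕ}

/-- The orthogonal space. -/
abbrev perp (E : Submodule F (VV m F)) : Submodule F (VV m F) :=
  LinearMap.BilinForm.orthogonal (sympBilin m F) E

theorem mem_perp {E : Submodule F (VV m F)} {v : VV m F} :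
    v ∈ perp E ↔ ∀ u ∈ E, sympForm m F u v = 0 :=
  LinearMap.BilinForm.mem_orthogonal_iff

theorem finrank_perp (E : Submodule F (VV m F)) :
    finrank F E + finrank F (perp E) = 2 * m := by
  have h : finrank F (perp E) = finrank F (VV m F) - finrank F E :=
    LinearMap.BilinForm.finrank_orthogonal (sympBilin_nondegenerate (m := m) (F := F)) E
  have h2 : finrank F (VV m F) = 2 * m := by
    rw [Module.finrank_fintype_fun_eq_card, Fintype.card_sum, Fintype.card_fin]
    ring
  have h3 : finrank F E ≤ finrank F (VV m F) := Submodule.finrank_le E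
  rw [h2] at h h3
  omega

theorem finrank_ti {E : Submodule F (VV m F)} (h : ∀ u ∈ E, ∀ v ∈ E, sympForm m F u v = 0) :
    finrank F E ≤ m := by
  have h1 : E ≤ perp E := fun v hv => mem_perp.2 fun u hu => h u hu v hv
  have h2 := Submodule.finrank_mono h1
  have h3 := finrank_perp E
  omega

/-- Membership in `E + ⟨v⟩`. -/
theorem mem_sup_span {E : Submodule F (VV m F)} {v w : VV m F} :
    w ∈ E ⊔ Submodule.span F {v} ↔ ∃ e ∈ E, ∃ a : F, w = e + a • v := by
  rw [Submodule.mem_sup]
  constructor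
  · rintro ⟨e, he, x, hx, rfl⟩
    obtain ⟨a, rfl⟩ := Submodule.mem_span_singleton.1 hx
    exact ⟨e, he, a, rfl⟩
  · rintro ⟨e, he, a, rfl⟩
    exact ⟨e, he, a • v, Submodule.mem_span_singleton.2 ⟨a, rfl⟩, rfl⟩

theorem ti_sup_span {E : Submodule F (VV m F)} (h : ∀ u ∈ E, ∀ v ∈ E, sympForm m F u v = 0)
    {x : VV m F} (hx : ∀ u ∈ E, sympForm m F u x = 0) :
    ∀ u ∈ E ⊔ Submodule.span F {x}, ∀ v ∈ E ⊔ Submodule.span F {x}, sympForm m F u v = 0 := by
  intro u hu v hv
  obtain ⟨e, he, a, rfl⟩ := mem_sup_span.1 hu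
  obtain ⟨f, hf, b, rfl⟩ := mem_sup_span.1 hv
  rw [sympForm_add_left, sympForm_add_right, sympForm_add_right, h e he f hf, sympForm_smul_right,
    hx e he, sympForm_smul_left, sympForm_swap x f, hx f hf, sympForm_smul_left,
    sympForm_smul_right, sympForm_self]
  ring

/-- The `n`-invariant totally isotropic subspace. -/
theorem exists_E [CharP F 3] {n : Equiv.Perm (VV m F)} {σ : F ≃+* F} {l : F}
    (hn : IsSemi n σ l) (h3 : n ^ 3 = 1) {x : VV m F} (hx : sympForm m F x (n x) ≠ 0) :
    ∃ E : Submodule F (VV m F), finrank F E + 1 = m ∧ (∀ v ∈ E, n v ∈ E) ∧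
      (∀ u ∈ E, ∀ v ∈ E, sympForm m F u v = 0) ∧ (∀ u ∈ E, sympForm m F u x = 0) ∧ x ∉ E := by
  have hnn : ∀ v, n (n (n v)) = v := fun v => DFunLike.congr_fun h3 v
  set W : Submodule F (VV m F) := Submodule.span F ({x, n x, n (n x)} : Set (VV m F)) with hW
  have hWn : ∀ v ∈ W, n v ∈ W := by
    intro v hv
    induction hv using Submodule.span_induction with
    | mem v hv =>
      apply Submodule.subset_span
      simp only [Set.mem_insert_iff, Set.mem_singleton_iff] at hv ⊢
      rcases hv with rfl | rfl | rfl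
      · exact Or.inr (Or.inl rfl)
      · exact Or.inr (Or.inr rfl)
      · exact Or.inl (hnn x)
    | zero => rw [map_zero' hn]; exact zero_mem _
    | add u v _ _ hu hv => rw [hn.1]; exact add_mem hu hv
    | smul a v _ hv => rw [hn.2.1]; exact Submodule.smul_mem _ _ hv
  have hxW : x ∈ W := Submodule.subset_span (by simp)
  have hnxW : n x ∈ W := Submodule.subset_span (by simp)
  set 𝒮 : Set (Submodule F (VV m F)) := {E | (∀ v ∈ E, n v ∈ E) ∧
    (∀ u ∈ E, ∀ v ∈ E, sympForm m F u v = 0) ∧ ∀ u ∈ E, ∀ w ∈ W, sympForm m F u w = 0} with h𝒮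
  have hne : 𝒮.Nonempty := by
    refine ⟨⊥, ?_, ?_, ?_⟩
    · intro v hv
      rw [Submodule.mem_bot] at hv ⊢
      rw [hv, map_zero' hn]
    · intro u hu v _
      rw [Submodule.mem_bot] at hu
      rw [hu, sympForm_zero_left]
    · intro u hu v _
      rw [Submodule.mem_bot] at hu
      rw [hu, sympForm_zero_left]
  obtain ⟨E, ⟨hEn, hEt, hEW⟩, hmax⟩ :=
    (wellFounded_gt : WellFounded ((· > ·) : Submodule F (VV m F) → _ → Prop)).has_min 𝒮 hne
  have hxE : x ∉ E := fun h => hx (hEW x h (n x) hnxW)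
  set X := perp (E ⊔ W) with hX
  have hle : E ≤ X := by
    intro v hv
    rw [hX, mem_perp]
    intro u hu
    obtain ⟨e, he, w, hw, rfl⟩ := Submodule.mem_sup.1 hu
    rw [sympForm_add_left, hEt e he v hv, sympForm_swap, hEW v hv w hw]
    ring
  have hXn : ∀ v ∈ X, n v ∈ X := by
    intro v hv
    rw [hX, mem_perp] at hv ⊢
    intro u hu
    obtain ⟨e, he, w, hw, rfl⟩ := Submodule.mem_sup.1 hu
    have h4 : e + w = n (n (n e) + n (n w)) := by rw [hn.1, hnn, hnn]
    rw [h4, hn.2.2, hv _ (Submodule.add_mem_sup (hEn _ (hEn _ he)) (hWn _ (hWn _ hw))), map_zero,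
      mul_zero]
  have heq : E = X := by
    by_contra hcon
    obtain ⟨v, hvX, hvE, hv⟩ := fix_vector hn.1 h3 (lt_of_le_of_ne hle hcon) hXn
    rw [hX, mem_perp] at hvX
    refine hmax (E ⊔ Submodule.span F {v}) ⟨?_, ?_, ?_⟩ ?_
    · intro u hu
      obtain ⟨e, he, a, rfl⟩ := mem_sup_span.1 hu
      refine mem_sup_span.2 ⟨n e + σ a • (n v - v), add_mem (hEn e he) (Submodule.smul_mem _ _ hv),
        σ a, ?_⟩
      rw [hn.1, hn.2.1, smul_sub]
      abel
    · exact ti_sup_span hEt fun u hu => hvX u (Submodule.mem_sup_left hu)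
    · intro u hu w hw
      obtain ⟨e, he, a, rfl⟩ := mem_sup_span.1 hu
      rw [sympForm_add_left, hEW e he w hw, sympForm_smul_left, sympForm_swap,
        hvX w (Submodule.mem_sup_right hw)]
      ring
    · refine lt_of_le_of_ne le_sup_left fun h => hvE ?_
      rw [h]
      exact Submodule.mem_sup_right (Submodule.mem_span_singleton_self v)
  classical
  have h5 := finrank_perp (E ⊔ W)
  rw [← hX, ← heq] at h5
  have h6 := Submodule.finrank_add_le_finrank_add_finrank E W
  have h7 : finrank F W ≤ 3 := by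
    have h8 := finrank_span_finset_le_card (R := F) (({x, n x, n (n x)} : Finset (VV m F)))
    have h9 : (({x, n x, n (n x)} : Finset (VV m F)) : Set (VV m F)) = {x, n x, n (n x)} := by simp
    rw [h9] at h8
    refine le_trans h8 ?_
    exact Finset.card_le_three
  have h10 : E < E ⊔ Submodule.span F {x} := by
    refine lt_of_le_of_ne le_sup_left fun h => hxE ?_
    rw [h]
    exact Submodule.mem_sup_right (Submodule.mem_span_singleton_self x)
  have h11 := Submodule.finrank_lt_finrank_of_lt h10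
  have h12 := finrank_ti (ti_sup_span hEt fun u hu => hEW u hu x hxW)
  exact ⟨E, by omega, hEn, hEt, fun u hu => hEW u hu x hxW, hxE⟩

/-- The subspaces between `E` and `E^⊥`, as sets. -/
def Om (E : Submodule F (VV m F)) : Set (Set (VV m F)) :=
  {s | ∃ M : Submodule F (VV m F), (M : Set (VV m F)) = s ∧ E < M ∧ M < perp E}

theorem finrank_sup_span_le (E : Submodule F (VV m F)) (v : VV m F) :
    finrank F ↥(E ⊔ Submodule.span F {v}) ≤ finrank F E + 1 := by
  have h := Submodule.finrank_add_le_finrank_add_finrank E (Submodule.span F {v})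
  have h2 := finrank_span_le_card (R := F) ({v} : Set (VV m F))
  simp only [Set.toFinset_singleton, Finset.card_singleton] at h2
  omega

theorem lt_sup_span {E : Submodule F (VV m F)} {v : VV m F} (hv : v ∉ E) :
    E < E ⊔ Submodule.span F {v} := by
  refine lt_of_le_of_ne le_sup_left fun h => hv ?_
  rw [h]
  exact Submodule.mem_sup_right (Submodule.mem_span_singleton_self v)

theorem mem_sup_self {E : Submodule F (VV m F)} {v : VV m F} : v ∈ E ⊔ Submodule.span F {v} :=
  Submodule.mem_sup_right (Submodule.mem_span_singleton_self v)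

/-- `E + ⟨v⟩` belongs to `Om E`. -/
theorem sup_span_mem_Om {E : Submodule F (VV m F)} (hE : finrank F E + 1 = m)
    (ht : ∀ u ∈ E, ∀ v ∈ E, sympForm m F u v = 0) {v : VV m F} (hv : ∀ u ∈ E, sympForm m F u v = 0)
    (hvE : v ∉ E) : ((E ⊔ Submodule.span F {v} : Submodule F (VV m F)) : Set (VV m F)) ∈ Om E := by
  refine ⟨_, rfl, lt_sup_span hvE, ?_⟩
  have h1 := finrank_sup_span_le E v
  have h2 := finrank_perp E
  refine lt_of_le_of_ne ?_ ?_
  · intro w hw
    obtain ⟨e, he, a, rfl⟩ := mem_sup_span.1 hw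
    rw [mem_perp]
    intro u hu
    rw [sympForm_add_right, ht u hu e he, sympForm_smul_right, hv u hu]
    ring
  · intro h
    rw [← h] at h2
    omega

open scoped Pointwise in
/-- The unique `n`-invariant member of `Om E`, for linear `n`. -/
theorem fix_unique [CharP F 3] {n : Equiv.Perm (VV m F)} {l : F}
    (hn : IsSemi n (1 : F ≃+* F) l) (h3 : n ^ 3 = 1) {x : VV m F} (hx : sympForm m F x (n x) ≠ 0)
    {E : Submodule F (VV m F)} (hE : finrank F E + 1 = m) (hEn : ∀ v ∈ E, n v ∈ E)
    (ht : ∀ u ∈ E, ∀ v ∈ E, sympForm m F u v = 0) (hEx : ∀ u ∈ E, sympForm m F u x = 0)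
    (hxE : x ∉ E) :
    ∃ v : VV m F, (∀ u ∈ E, sympForm m F u v = 0) ∧ v ∉ E ∧ ∀ s ∈ Om E,
      (n • s = s ↔ s = ((E ⊔ Submodule.span F {v} : Submodule F (VV m F)) : Set (VV m F))) := by
  have hnn : ∀ v, n (n (n v)) = v := fun v => DFunLike.congr_fun h3 v
  have hperp := finrank_perp E
  have hEP : E ≤ perp E := fun v hv => mem_perp.2 fun u hu => ht u hu v hv
  have hPn : ∀ v ∈ perp E, n v ∈ perp E := by
    intro v hv
    rw [mem_perp] at hv ⊢
    intro u hu
    rw [← hnn u, hn.2.2, hv _ (hEn _ (hEn _ hu)), map_zero, mul_zero]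
  have hlt : E < perp E := lt_of_le_of_ne hEP fun h => hxE (by
    rw [h, mem_perp]
    exact hEx)
  obtain ⟨v, hvP, hvE, hv⟩ := fix_vector hn.1 h3 hlt hPn
  rw [mem_perp] at hvP
  refine ⟨v, hvP, hvE, fun s hs => ?_⟩
  have h1 := finrank_sup_span_le E v
  have h2 := Submodule.finrank_lt_finrank_of_lt (lt_sup_span hvE)
  constructor
  · intro hfix
    obtain ⟨M, rfl, hEM, hMP⟩ := hs
    have hMn : ∀ w ∈ M, n w ∈ M := by
      intro w hw
      have h4 : n • w ∈ n • (M : Set (VV m F)) := Set.smul_mem_smul_set hw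
      rw [hfix] at h4
      exact h4
    obtain ⟨v', hvM, hvE', hv'⟩ := fix_vector hn.1 h3 hEM hMn
    have h5 := Submodule.finrank_lt_finrank_of_lt hEM
    have h6 := Submodule.finrank_lt_finrank_of_lt hMP
    have h7 : E ⊔ Submodule.span F {v'} ≤ M :=
      sup_le hEM.le (by rwa [Submodule.span_singleton_le_iff_mem])
    have h8 := Submodule.finrank_lt_finrank_of_lt (lt_sup_span hvE')
    have h9 := Submodule.finrank_mono h7
    have h10 : E ⊔ Submodule.span F {v'} = M := Submodule.eq_of_le_of_finrank_eq h7 (by omega)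
    by_cases hmem : v' ∈ E ⊔ Submodule.span F {v}
    · have h11 : E ⊔ Submodule.span F {v'} ≤ E ⊔ Submodule.span F {v} :=
        sup_le le_sup_left (by rwa [Submodule.span_singleton_le_iff_mem])
      have h12 : E ⊔ Submodule.span F {v'} = E ⊔ Submodule.span F {v} :=
        Submodule.eq_of_le_of_finrank_eq h11 (by omega)
      rw [← h12, h10]
    · exfalso
      have h11 := Submodule.finrank_lt_finrank_of_lt (lt_sup_span hmem)
      have h12 : E ⊔ Submodule.span F {v} ⊔ Submodule.span F {v'} ≤ perp E := by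
        refine sup_le (sup_le hEP ?_) ?_
        · rw [Submodule.span_singleton_le_iff_mem, mem_perp]
          exact hvP
        · rw [Submodule.span_singleton_le_iff_mem]
          exact hMP.le hvM
      have h13 : E ⊔ Submodule.span F {v} ⊔ Submodule.span F {v'} = perp E :=
        Submodule.eq_of_le_of_finrank_le h12 (by omega)
      have h14 : x ∈ E ⊔ Submodule.span F {v} ⊔ Submodule.span F {v'} := by
        rw [h13, mem_perp]
        exact hEx
      obtain ⟨w, hw, b, hb⟩ := mem_sup_span.1 h14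
      obtain ⟨e, he, a, ha⟩ := mem_sup_span.1 hw
      have h15 : n x - x ∈ E := by
        have h16 : n x - x = (n e - e) + a • (n v - v) + b • (n v' - v') := by
          rw [hb, ha, hn.1, hn.1, hn.2.1, hn.2.1]
          change n e + a • n v + b • n v' - _ = _
          rw [smul_sub, smul_sub]
          abel
        rw [h16]
        exact add_mem (add_mem (sub_mem (hEn e he) he) (Submodule.smul_mem _ _ hv))
          (Submodule.smul_mem _ _ hv')
      apply hx
      have h16 := hEx _ h15
      rw [sympForm_sub_left, sympForm_self, sub_zero] at h16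
      rw [sympForm_swap, h16, neg_zero]
  · rintro rfl
    have hinv : ∀ w ∈ E ⊔ Submodule.span F {v}, n w ∈ E ⊔ Submodule.span F {v} := by
      intro w hw
      obtain ⟨e, he, a, rfl⟩ := mem_sup_span.1 hw
      refine mem_sup_span.2 ⟨n e + a • (n v - v), add_mem (hEn e he) (Submodule.smul_mem _ _ hv),
        a, ?_⟩
      rw [hn.1, hn.2.1, smul_sub]
      change n e + a • n v = _
      abel
    ext w
    constructor
    · rintro ⟨u, hu, rfl⟩
      exact hinv u hu
    · intro hw
      exact ⟨n (n w), hinv _ (hinv _ hw), hnn w⟩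

end Cfsg.Agent.H450.Wf.Sp
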