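import Cfsg.Agent.H450.Wf.SpGeo

/-!
# Pairs of elements of order 3 in symplectic groups of characteristic 3: one linear member
-/

set_option autoImplicit false

namespace Cfsg.Agent.H450.Wf.Sp

open Module Cfsg.Agent.ClassicalGeometry.SympBasic Cfsg.Agent.ClassicalGeometry.SympAutSemi
open Cfsg.Agent.ClassicalGeometry.SympGamma
open Cfsg.Agent.CpAut.Psp (toSemi isSemi_one)
open Cfsg.Agent.H957.T5V (IsScal)
open Cfsg.Agent.H194.MOwn.Spo

open scoped Pointwise

variable {F : Type*} [Field F] {m : ℕ}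

/-- Witt's theorem for totally isotropic flags. -/
theorem exists_rho_flag {k : ℕ} {E E' : Submodule F (VV m F)} (hE : finrank F E = k)
    (hE' : finrank F E' = k) (ht : ∀ u ∈ E, ∀ v ∈ E, sympForm m F u v = 0)
    (ht' : ∀ u ∈ E', ∀ v ∈ E', sympForm m F u v = 0) {u v : VV m F}
    (hu : ∀ e ∈ E', sympForm m F e u = 0) (huE : u ∉ E')
    (hv : ∀ e ∈ E, sympForm m F e v = 0) (hvE : v ∉ E) :
    ∃ A : Matrix.symplecticGroup (Fin m) F, (∀ e, e ∈ E' ↔ rho m F A e ∈ E) ∧
      rho m F A u = v := by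
  have aux : ∀ {E : Submodule F (VV m F)} (_ : finrank F E = k)
      (_ : ∀ u ∈ E, ∀ v ∈ E, sympForm m F u v = 0) {v : VV m F}
      (_ : ∀ e ∈ E, sympForm m F e v = 0) (_ : v ∉ E), ∃ w : Fin k → VV m F,
        Submodule.span F (Set.range w) = E ∧
        LinearIndependent F (Fin.cons v w : Fin (k + 1) → VV m F) ∧
        ∀ i j, sympBilin m F ((Fin.cons v w : Fin (k + 1) → VV m F) i)
          ((Fin.cons v w : Fin (k + 1) → VV m F) j) = 0 := by
    intro E hE ht v hv hvE
    let b := finBasisOfFinrankEq F E hE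
    have h1 : Submodule.span F (Set.range fun i => (b i : VV m F)) = E := by
      have h2 := b.span_eq
      have h3 := congrArg (Submodule.map E.subtype) h2
      rw [Submodule.map_span, Submodule.map_top, Submodule.range_subtype, ← Set.range_comp] at h3
      exact h3
    refine ⟨fun i => (b i : VV m F), h1, ?_, ?_⟩
    · rw [linearIndependent_finCons]
      refine ⟨b.linearIndependent.map' E.subtype E.ker_subtype, ?_⟩
      rw [h1]
      exact hvE
    · have h4 : ∀ i, (Fin.cons v (fun i => (b i : VV m F)) : Fin (k + 1) → VV m F) i ∈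
          E ⊔ Submodule.span F {v} := by
        intro i
        refine Fin.cases ?_ (fun i => ?_) i
        · rw [Fin.cons_zero]
          exact mem_sup_self
        · rw [Fin.cons_succ]
          exact Submodule.mem_sup_left (b i).2
      intro i j
      rw [sympBilin_apply]
      exact ti_sup_span ht hv _ (h4 i) _ (h4 j)
  obtain ⟨w, hw1, hw2, hw3⟩ := aux hE ht hv hvE
  obtain ⟨w', hw1', hw2', hw3'⟩ := aux hE' ht' hu huE
  obtain ⟨g, hg, hgw⟩ := Cfsg.Agent.H91.Symp.witt_family (B := sympBilin m F)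
    ⟨sympBilin_nondegenerate, sympBilin_isAlt⟩ hw2' hw2 (fun i j => by rw [hw3, hw3'])
  obtain ⟨A, hA⟩ := exists_rho_eq (m := m) (F := F) g.toEquiv (fun u v => map_add g u v)
    (fun a v => map_smul g a v) (fun u v => by
      have := hg u v
      rw [sympBilin_apply, sympBilin_apply] at this
      exact this)
  have hAg : ∀ v, rho m F A v = g v := fun v => by rw [hA]; rfl
  have hmap : E'.map g.toLinearMap = E := by
    rw [← hw1', ← hw1, Submodule.map_span, ← Set.range_comp]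
    congr 1
    congr 1
    funext i
    have := hgw i.succ
    rw [Fin.cons_succ, Fin.cons_succ] at this
    exact this
  refine ⟨A, fun e => ?_, ?_⟩
  · rw [hAg, ← hmap]
    constructor
    · intro he
      exact ⟨e, he, rfl⟩
    · rintro ⟨f, hf, hfe⟩
      rw [← g.injective hfe]
      exact hf
  · rw [hAg]
    have := hgw 0
    rw [Fin.cons_zero, Fin.cons_zero] at this
    exact this

theorem scal_smul {w : Equiv.Perm (VV m F)} (h : IsScal F w) (M : Submodule F (VV m F)) :
    w • (M : Set (VV m F)) = M := by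
  obtain ⟨a, ha⟩ := h
  ext x
  constructor
  · rintro ⟨v, hv, rfl⟩
    change w v ∈ M
    rw [ha]
    exact Submodule.smul_mem _ _ hv
  · intro hx
    by_cases h0 : a = 0
    · have h1 : x = 0 := by
        have := ha (w.symm x)
        rw [Equiv.apply_symm_apply, h0, zero_smul] at this
        exact this
      refine ⟨0, zero_mem _, ?_⟩
      change w 0 = x
      rw [ha, smul_zero, h1]
    · refine ⟨a⁻¹ • x, Submodule.smul_mem _ _ hx, ?_⟩
      change w (a⁻¹ • x) = x
      rw [ha, smul_smul, mul_inv_cancel₀ h0, one_smul]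

/-- Semisimilitudes stabilising `E` act on `Om E`. -/
theorem Om_inv {h : Equiv.Perm (VV m F)} {φ : F ≃+* F} {l : F} (hl : l ≠ 0) (hh : IsSemi h φ l)
    {E : Submodule F (VV m F)} (hE : h • (E : Set (VV m F)) = E) {s : Set (VV m F)}
    (hs : s ∈ Om E) : h • s ∈ Om E := by
  obtain ⟨M, rfl, h1, h2⟩ := hs
  have hmem : ∀ v, h v ∈ E ↔ v ∈ E := by
    intro v
    have h3 : h • v ∈ h • (E : Set (VV m F)) ↔ v ∈ (E : Set (VV m F)) := Set.smul_mem_smul_set_iff
    rw [hE] at h3
    exact h3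
  let M' : Submodule F (VV m F) :=
    { carrier := h • (M : Set (VV m F))
      add_mem' := by
        rintro _ _ ⟨a, ha, rfl⟩ ⟨b, hb, rfl⟩
        exact ⟨a + b, add_mem ha hb, hh.1 a b⟩
      zero_mem' := ⟨0, zero_mem _, map_zero' hh⟩
      smul_mem' := by
        rintro c _ ⟨a, ha, rfl⟩
        refine ⟨φ.symm c • a, Submodule.smul_mem _ _ ha, ?_⟩
        change h (φ.symm c • a) = _
        rw [hh.2.1, RingEquiv.apply_symm_apply]
        rfl }
  have hM' : ∀ v, v ∈ M' ↔ ∃ a ∈ M, h a = v := fun v => Iff.rfl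
  refine ⟨M', rfl, ?_, ?_⟩
  · obtain ⟨x, hxM, hxE⟩ := SetLike.exists_of_lt h1
    refine SetLike.lt_iff_le_and_exists.2 ⟨fun v hv => ?_, h x, (hM' _).2 ⟨x, hxM, rfl⟩, ?_⟩
    · rw [hM']
      refine ⟨h.symm v, h1.le ?_, Equiv.apply_symm_apply h v⟩
      rw [← hmem, Equiv.apply_symm_apply]
      exact hv
    · rwa [hmem]
  · have hP : ∀ v, h v ∈ perp E ↔ v ∈ perp E := by
      intro v
      rw [mem_perp, mem_perp]
      constructor
      · intro h3 u hu
        have h4 := h3 (h u) ((hmem u).2 hu)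
        rw [hh.2.2] at h4
        have h5 := (mul_eq_zero.1 h4).resolve_left hl
        rwa [EmbeddingLike.map_eq_zero_iff] at h5
      · intro h3 u hu
        rw [← Equiv.apply_symm_apply h u, hh.2.2, h3, map_zero, mul_zero]
        rw [← hmem, Equiv.apply_symm_apply]
        exact hu
    obtain ⟨x, hxP, hxM⟩ := SetLike.exists_of_lt h2
    refine SetLike.lt_iff_le_and_exists.2 ⟨fun v hv => ?_, h x, (hP x).2 hxP, ?_⟩
    · obtain ⟨a, ha, rfl⟩ := (hM' _).1 hv
      exact (hP a).2 (h2.le ha)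
    · intro hx
      obtain ⟨a, ha, hax⟩ := (hM' _).1 hx
      rw [h.injective hax] at ha
      exact hxM ha

/-- **The pairs, `y` linear.** -/
theorem core_lin [Finite F] [CharP F 3] {y n z n' : Equiv.Perm (VV m F)} {c c' k l l' ly : F}
    {τ : F ≃+* F} (hc : c ≠ 0) (hly : ly ≠ 0) (hy : IsSemi y (1 : F ≃+* F) ly)
    (hyn : ∀ v, y v = c • n v)
    (hn : IsSemi n (1 : F ≃+* F) l) (h3 : n ^ 3 = 1) {x : VV m F} (hx : sympForm m F x (n x) ≠ 0)
    (hk : k ≠ 0) (hz : IsSemi z τ k) (hc' : c' ≠ 0) (hzn : ∀ v, z v = c' • n' v)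
    (hn' : IsSemi n' τ l') (h3' : n' ^ 3 = 1) {u : VV m F} (hu : sympForm m F u (n' u) ≠ 0) :
    ∃ A : Matrix.symplecticGroup (Fin m) F,
      ∃ w ∈ Subgroup.closure ({y, rho m F A * z * (rho m F A)⁻¹} : Set (Equiv.Perm (VV m F))),
        ∀ k : ℕ, ¬ IsScal F (w ^ 3 ^ k) := by
  have hthree : Fact (Nat.Prime 3) := ⟨Nat.prime_three⟩
  obtain ⟨E, hE, hEn, ht, hEx, hxE⟩ := exists_E hn h3 hx
  obtain ⟨E', hE', hEn', ht', hEu, huE⟩ := exists_E hn' h3' hu
  obtain ⟨v, hvP, hvE, huniq⟩ := fix_unique hn h3 hx hE hEn ht hEx hxE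
  obtain ⟨A, hAE, hAu⟩ := exists_rho_flag (k := m - 1) (E := E) (E' := E') (by omega) (by omega)
    ht ht' hEu huE hvP hvE
  refine ⟨A, ?_⟩
  by_contra hcon
  push Not at hcon
  set z' := rho m F A * z * (rho m F A)⁻¹ with hz'
  set H := Subgroup.closure ({y, z'} : Set (Equiv.Perm (VV m F))) with hH
  have hyH : y ∈ H := Subgroup.subset_closure (by simp)
  have hzH : z' ∈ H := Subgroup.subset_closure (by simp)
  -- invariance of `E`
  have hstab : ∀ g : Equiv.Perm (VV m F), (∀ e ∈ E, g e ∈ E) → g • (E : Set (VV m F)) = E := by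
    intro g hg
    apply Set.eq_of_subset_of_ncard_le
    · rintro _ ⟨e, he, rfl⟩
      exact hg e he
    · rw [Set.ncard_smul_set]
    · exact Set.toFinite _
  have hyE : y • (E : Set (VV m F)) = E := hstab y fun e he => by
    rw [hyn]
    exact Submodule.smul_mem _ _ (hEn e he)
  have hzE : z' • (E : Set (VV m F)) = E := hstab z' fun e he => by
    change rho m F A (z ((rho m F A)⁻¹ e)) ∈ E
    rw [← hAE, hzn]
    refine Submodule.smul_mem _ _ (hEn' _ ?_)
    rw [hAE]
    have : rho m F A ((rho m F A)⁻¹ e) = e := (rho m F A).apply_symm_apply e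
    rw [this]
    exact he
  have hHS : H ≤ semiSim m F ⊓ MulAction.stabilizer (Equiv.Perm (VV m F)) (E : Set (VV m F)) := by
    rw [hH, Subgroup.closure_le]
    rintro g (rfl | hg)
    · exact ⟨⟨1, ly, hly, hy⟩, hyE⟩
    · rw [Set.mem_singleton_iff] at hg
      rw [hg]
      exact ⟨⟨τ, k, hk, isSemi_conj hz A⟩, hzE⟩
  have hOm : ∀ h ∈ H, ∀ s ∈ Om E, h • s ∈ Om E := by
    intro h hh s hs
    obtain ⟨⟨φ, l0, hl0, h1⟩, h2⟩ := hHS hh
    exact Om_inv hl0 h1 h2 hs
  have hpow : ∀ h ∈ H, ∃ k : ℕ, ∀ s ∈ Om E, h ^ 3 ^ k • s = s := by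
    intro h hh
    obtain ⟨k, hk⟩ := hcon h hh
    refine ⟨k, ?_⟩
    rintro _ ⟨M, rfl, -, -⟩
    exact scal_smul hk M
  have hfin : (Om E).Finite := Set.toFinite _
  have hZ : Subgroup.zpowers y ≤ H := by rwa [Subgroup.zpowers_le]
  have e1 := card_modEq (p := 3) H (Om E) hfin hOm hpow
  have e2 := card_modEq (p := 3) (Subgroup.zpowers y) (Om E) hfin
    (fun h hh => hOm h (hZ hh)) (fun h hh => hpow h (hZ hh))
  have hyn' : ∀ s ∈ Om E, y • s = s → n • s = s := by
    rintro _ ⟨M, rfl, -, -⟩ hM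
    have h1 : n • (M : Set (VV m F)) = y • (M : Set (VV m F)) := by
      ext w
      constructor
      · rintro ⟨a, ha, rfl⟩
        refine ⟨c⁻¹ • a, Submodule.smul_mem _ _ ha, ?_⟩
        change y (c⁻¹ • a) = n a
        rw [hyn, hn.2.1]
        change c • c⁻¹ • n a = _
        rw [smul_smul, mul_inv_cancel₀ hc, one_smul]
      · rintro ⟨a, ha, rfl⟩
        refine ⟨c • a, Submodule.smul_mem _ _ ha, ?_⟩
        change n (c • a) = y a
        rw [hyn, hn.2.1]
        rfl
    rw [h1, hM]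
  have hyn'' : ∀ s ∈ Om E, n • s = s → y • s = s := by
    rintro _ ⟨M, rfl, -, -⟩ hM
    have h1 : n • (M : Set (VV m F)) = y • (M : Set (VV m F)) := by
      ext w
      constructor
      · rintro ⟨a, ha, rfl⟩
        refine ⟨c⁻¹ • a, Submodule.smul_mem _ _ ha, ?_⟩
        change y (c⁻¹ • a) = n a
        rw [hyn, hn.2.1]
        change c • c⁻¹ • n a = _
        rw [smul_smul, mul_inv_cancel₀ hc, one_smul]
      · rintro ⟨a, ha, rfl⟩
        refine ⟨c • a, Submodule.smul_mem _ _ ha, ?_⟩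
        change n (c • a) = y a
        rw [hyn, hn.2.1]
        rfl
    rw [← h1, hM]
  set M0 : Set (VV m F) := ((E ⊔ Submodule.span F {v} : Submodule F (VV m F)) : Set (VV m F))
    with hM0
  have hM0Om : M0 ∈ Om E := sup_span_mem_Om hE ht hvP hvE
  have hset : {s | s ∈ Om E ∧ ∀ h ∈ Subgroup.zpowers y, h • s = s} = {M0} := by
    ext s
    rw [Set.mem_singleton_iff]
    constructor
    · rintro ⟨h1, h2⟩
      exact (huniq s h1).1 (hyn' s h1 (h2 y (Subgroup.mem_zpowers y)))
    · rintro rfl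
      refine ⟨hM0Om, ?_⟩
      have h1 : y ∈ MulAction.stabilizer (Equiv.Perm (VV m F)) M0 :=
        hyn'' M0 hM0Om ((huniq M0 hM0Om).2 rfl)
      intro h hh
      have h2 : Subgroup.zpowers y ≤ MulAction.stabilizer (Equiv.Perm (VV m F)) M0 := by
        rwa [Subgroup.zpowers_le]
      exact h2 hh
  rw [hset] at e2
  have hne : Nat.card ↥{s | s ∈ Om E ∧ ∀ h ∈ H, h • s = s} ≠ 0 := by
    intro h0
    rw [h0] at e1
    have e3 := e1.symm.trans e2
    rw [Nat.card_unique] at e3
    exact absurd e3 (by decide)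
  have hne2 : Nonempty ↥{s | s ∈ Om E ∧ ∀ h ∈ H, h • s = s} := by
    by_contra h0
    rw [not_nonempty_iff] at h0
    exact hne Nat.card_of_isEmpty
  obtain ⟨s, hs, hsH⟩ := hne2
  have hsM : s = M0 := (huniq s hs).1 (hyn' s hs (hsH y hyH))
  have hz0 := hsH z' hzH
  rw [hsM] at hz0
  have hvM : v ∈ E ⊔ Submodule.span F {v} := mem_sup_self
  have h1 : z' v ∈ E ⊔ Submodule.span F {v} := by
    have h2 : z' • v ∈ z' • M0 := Set.smul_mem_smul_set hvM
    rw [hz0] at h2
    exact h2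
  have h2 := ti_sup_span ht hvP v hvM (z' v) h1
  apply hu
  have h4 : (rho m F A)⁻¹ v = u := by
    rw [← hAu]
    exact (rho m F A).symm_apply_apply u
  have h3 : z' v = rho m F A (z u) := by
    change rho m F A (z ((rho m F A)⁻¹ v)) = _
    rw [h4]
  rw [h3, ← hAu, sympForm_rho, hzn, sympForm_smul_right] at h2
  exact (mul_eq_zero.1 h2).resolve_left hc'

end Cfsg.Agent.H450.Wf.Sp
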