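import Cfsg.Agent.H450.Wf.SpLin
import Cfsg.Agent.H194.MOwn.SpRow
import Cfsg.Agent.H206.FieldKill
import Cfsg.Agent.H397.ZTwo
import Cfsg.Agent.H533.Wf.Kills

/-!
# The row `PSp_2m(q)`, `q` a power of 3, of S3826: `wf_psp_own`
-/

set_option autoImplicit false

namespace Cfsg.Agent.H450.Wf.Sp

open Module Cfsg.Agent.ClassicalGeometry.SympBasic Cfsg.Agent.ClassicalGeometry.SympAutSemi
open Cfsg.Agent.ClassicalGeometry.SympGamma
open Cfsg.Agent.CpAut.Psp (toSemi isSemi_one)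
open Cfsg.Agent.H957.T5V (IsScal Scl)
open Cfsg.Agent.H194.MOwn.Spo
open Cfsg.Agent.CpAut (Descent.exists_scale Descent.hilbert90 Descent.exists_basis Descent.scal)

section field

variable {F : Type*} [Field F]

theorem three_eq_zero [CharP F 3] : (3 : F) = 0 := by
  have h := CharP.cast_eq_zero F 3
  exact_mod_cast h

theorem two_ne_zero' [CharP F 3] : (2 : F) ≠ 0 := by
  intro h
  have h3 := three_eq_zero (F := F)
  have : (1 : F) = 0 := by linear_combination h3 - h
  exact one_ne_zero this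

/-- `(σ - 1)² ≠ 0` for an automorphism of order 3 in characteristic 3. -/
theorem exists_sq_ne [CharP F 3] {σ : F ≃+* F} (hσ : σ ≠ 1) :
    ∃ t : F, σ (σ t - t) - (σ t - t) ≠ 0 := by
  obtain ⟨t, ht⟩ : ∃ t : F, σ t ≠ t := by
    by_contra h3
    push Not at h3
    exact hσ (RingEquiv.ext h3)
  by_contra hcon
  push Not at hcon
  have h1 := hcon t
  have h2 := hcon (t ^ 2)
  set d := σ t - t with hd
  have hd0 : d ≠ 0 := sub_ne_zero.2 ht
  have h3 : σ t = t + d := by rw [hd]; ring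
  have h4 : σ d = d := sub_eq_zero.1 h1
  have h5 : 2 * d ^ 2 = 0 := by
    have h6 : σ (t ^ 2) = (t + d) ^ 2 := by rw [map_pow, h3]
    rw [h6, map_sub, map_pow, map_add, h3, h4, map_pow, h3] at h2
    linear_combination h2
  rcases mul_eq_zero.1 h5 with h | h
  · exact two_ne_zero' h
  · exact hd0 (pow_eq_zero_iff (by norm_num) |>.1 h)

/-- Two values of `σ - 1` with distinct squares. -/
theorem exists_two_values [CharP F 3] {σ : F ≃+* F} (hσ : σ ≠ 1) (h3 : σ ^ 3 = 1) :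
    ∃ t t' : F, σ t - t ≠ 0 ∧ σ t' - t' ≠ 0 ∧ (σ t - t) ^ 2 ≠ (σ t' - t') ^ 2 := by
  obtain ⟨t, ht⟩ := exists_sq_ne hσ
  have hz : (3 : F) = 0 := three_eq_zero
  have h1 : σ (σ (σ t)) = t := by
    have h := RingEquiv.congr_fun h3 t
    exact h
  refine ⟨t, σ t - t, ?_, ht, ?_⟩
  · intro h0
    apply ht
    rw [h0, map_zero, sub_zero]
  · intro h2
    set d := σ t - t with hd
    set e := σ d - d with he
    have he1 : σ e = e := by
      rw [he, hd, map_sub, map_sub, map_sub, h1]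
      linear_combination (σ t - σ (σ t)) * hz
    have h4 : (d - e) * (d + e) = 0 := by linear_combination h2
    rcases mul_eq_zero.1 h4 with h5 | h5
    · have h6 : d = e := sub_eq_zero.1 h5
      apply ht
      rw [he, h6, he1, sub_self]
    · have h6 : d = -e := eq_neg_of_add_eq_zero_left h5
      apply ht
      rw [he, h6, map_neg, he1, sub_self]

theorem exists_pow_eq_inv [Finite F] {σ τ : F ≃+* F} (hσ : orderOf σ = 3) (hτ : orderOf τ = 3) :
    ∃ j : ℕ, σ * τ ^ j = 1 := by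
  classical
  have hfin : Finite (F ≃+* F) := Finite.of_injective (fun f : F ≃+* F => (f : F → F))
    (fun _ _ h => RingEquiv.ext fun x => congrFun h x)
  have hcyc := Cfsg.Agent.H206.FieldKill.isCyclic_aut F
  have h1 := Cfsg.Agent.H397.ZTwo.mem_zpowers_of_orderOf_eq (x := τ) (y := σ) (hτ.trans hσ.symm)
  have h2 : σ⁻¹ ∈ Subgroup.zpowers τ := inv_mem h1
  rw [mem_zpowers_iff_mem_range_orderOf] at h2
  obtain ⟨j, -, hj⟩ := Finset.mem_image.1 h2
  exact ⟨j, by rw [hj, mul_inv_cancel]⟩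

end field

variable {F : Type*} [Field F] {m : ℕ}

/-- The normalised form of a non-scalar semisimilitude with scalar cube. -/
theorem values3 [Finite F] (hm : 1 ≤ m) [CharP F 3]
    {y : Equiv.Perm (VV m F)} {σ : F ≃+* F} {l : F} (hl : l ≠ 0) (hy : IsSemi y σ l) {a : F}
    (ha : ∀ v, (y ^ 3) v = a • v) (hns : ¬ IsScal F y) :
    ∃ (n : Equiv.Perm (VV m F)) (c l' : F), c ≠ 0 ∧ (∀ v, y v = c • n v) ∧ l' ≠ 0 ∧ IsSemi n σ l' ∧
      n ^ 3 = 1 ∧ (∃ x, sympForm m F x (n x) ≠ 0) ∧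
      (σ ≠ 1 → orderOf σ = 3 ∧ ∃ r : F, r ≠ 0 ∧ ∀ t, ∃ f, sympForm m F f (n f) = (σ t - t) * r) := by
  classical
  have hpp : Nat.Prime 3 := Nat.prime_three
  have hF3 : Fact (Nat.Prime 3) := ⟨hpp⟩
  have h2 : (2 : F) ≠ 0 := two_ne_zero'
  obtain ⟨v₀, hv0⟩ : ∃ v₀ : VV m F, v₀ ≠ 0 :=
    ⟨Pi.single (Sum.inl ⟨0, hm⟩) 1, fun h => by simpa using congrFun h (Sum.inl ⟨0, hm⟩)⟩
  have ha0 : a ≠ 0 := by
    rintro rfl
    apply hv0
    apply (y ^ 3).injective
    rw [ha, ha, zero_smul, zero_smul]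
  have hsc : ∀ (c : Fˣ), IsSemi (Descent.scal (VV m F) c * y) σ ((c : F) * c * l) := by
    intro c
    have hNv : ∀ v, (Descent.scal (VV m F) c * y) v = (c : F) • y v := fun v => rfl
    refine ⟨fun u v => ?_, fun x v => ?_, fun u v => ?_⟩
    · rw [hNv, hNv, hNv, hy.1, smul_add]
    · rw [hNv, hNv, hy.2.1, smul_comm]
    · rw [hNv, hNv, sympForm_smul_left, sympForm_smul_right, hy.2.2]
      ring
  by_cases hσ : σ = 1
  · subst hσ
    obtain ⟨c, hc⟩ : ∃ c : F, c ^ 3 = a := by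
      obtain ⟨c, hc⟩ := (Finite.injective_iff_surjective.1 (frobenius_inj F 3)) a
      exact ⟨c, hc⟩
    have hc0 : c ≠ 0 := by
      rintro rfl
      rw [zero_pow hpp.ne_zero] at hc
      exact ha0 hc.symm
    set N : Equiv.Perm (VV m F) :=
      Descent.scal (VV m F) (Units.mk0 c⁻¹ (inv_ne_zero hc0)) * y with hN
    have hNv : ∀ v, N v = c⁻¹ • y v := fun v => rfl
    have hNs : IsSemi N (1 : F ≃+* F) (c⁻¹ * c⁻¹ * l) := hsc _
    have hNk : ∀ (k : ℕ) (v : VV m F), (N ^ k) v = c⁻¹ ^ k • (y ^ k) v := by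
      intro k
      induction k with
      | zero => intro v; rw [pow_zero, pow_zero, pow_zero, one_smul]
      | succ k ih =>
        intro v
        rw [pow_succ, Equiv.Perm.mul_apply, ih, hNv, pow_succ y, Equiv.Perm.mul_apply,
          (isSemi_pow hy k).2.1, one_pow, smul_smul, pow_succ c⁻¹]
        rfl
    have hNp : N ^ 3 = 1 := by
      ext1 v
      rw [hNk, ha, smul_smul, inv_pow, hc, inv_mul_cancel₀ ha0, one_smul]
      rfl
    have hl1 : c⁻¹ * c⁻¹ * l = 1 := by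
      have h3 := isSemi_pow hNs 3
      rw [hNp] at h3
      have h4 := (IsSemi.unique hm h3 isSemi_one).2
      rw [Finset.prod_congr rfl (fun i _ => by rw [one_pow]; rfl :
        ∀ i ∈ Finset.range 3, ((1 : F ≃+* F) ^ i) (c⁻¹ * c⁻¹ * l) = c⁻¹ * c⁻¹ * l),
        Finset.prod_const, Finset.card_range] at h4
      have h5 : (c⁻¹ * c⁻¹ * l) ^ 3 = 1 ^ 3 := by rw [h4, one_pow]
      exact frobenius_inj F 3 h5
    rw [hl1] at hNs
    have hn1 : N ≠ 1 := by
      intro h1
      apply hns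
      refine ⟨c, fun v => ?_⟩
      have h3 : c⁻¹ • y v = v := by
        rw [← hNv, h1]
        rfl
      rw [← h3, smul_smul, mul_inv_cancel₀ hc0, one_smul, h3]
    obtain ⟨s, hs, ⟨f, hf⟩, -⟩ := two_values (p := 3) (by norm_num) hNs hNp hn1
    refine ⟨N, c, 1, hc0, fun v => ?_, one_ne_zero, hNs, hNp, ⟨f, ?_⟩, fun h => absurd rfl h⟩
    · rw [hNv, smul_smul, mul_inv_cancel₀ hc0, one_smul]
    · rw [hf]
      exact hs
  · have hap : IsSemi (y ^ 3) (1 : F ≃+* F) (a * a) := by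
      refine ⟨fun u v => ?_, fun t v => ?_, fun u v => ?_⟩
      · rw [ha, ha, ha, smul_add]
      · rw [ha, ha, smul_comm]
        rfl
      · rw [ha, ha, sympForm_smul_left, sympForm_smul_right]
        change _ = a * a * sympForm m F u v
        ring
    have hσp : σ ^ 3 = 1 := (IsSemi.unique hm (isSemi_pow hy 3) hap).1
    have hord : orderOf σ = 3 := orderOf_eq_prime hσp hσ
    obtain ⟨c, hc⟩ := Descent.exists_scale (toSemi hy) hord hpp.pos ha0 ha ⟨v₀, hv0⟩
    set N : Equiv.Perm (VV m F) := Descent.scal (VV m F) c * y with hN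
    have hNv : ∀ v, N v = (c : F) • y v := fun v => rfl
    have hNs : IsSemi N σ (c * c * l) := hsc c
    obtain ⟨b, hb⟩ := Descent.exists_basis (toSemi hNs) hord hpp.pos hc
      (ι := Fin m ⊕ Fin m) (by rw [Module.finrank_fintype_fun_eq_card])
    -- two basis vectors with non-zero product
    obtain ⟨i, j, hij⟩ : ∃ i j, sympForm m F (b i) (b j) ≠ 0 := by
      by_contra hcon
      push Not at hcon
      apply hv0
      have h3 : ∀ i v, sympForm m F (b i) v = 0 := by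
        intro i v
        rw [← b.sum_repr v, ← sympBilin_apply, map_sum]
        refine Finset.sum_eq_zero fun j _ => ?_
        rw [map_smul, sympBilin_apply, hcon, smul_zero]
      refine eq_zero_of_forall_sympForm_right fun v => ?_
      rw [sympForm_swap, ← b.sum_repr v₀, ← sympBilin_apply, map_sum, neg_eq_zero]
      refine Finset.sum_eq_zero fun j _ => ?_
      rw [map_smul, sympBilin_apply, sympForm_swap, h3, neg_zero, smul_zero]
    have key : ∀ x : F, sympForm m F (b i + x • b j) (N (b i + x • b j)) =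
        (σ x - x) * sympForm m F (b i) (b j) := by
      intro x
      rw [hNs.1, hNs.2.1, hb, hb, sympForm_add_left, sympForm_add_right, sympForm_add_right,
        sympForm_smul_left, sympForm_smul_left, sympForm_smul_right, sympForm_smul_right,
        sympForm_self, sympForm_self, sympForm_swap (b j) (b i)]
      ring
    obtain ⟨t, ht⟩ : ∃ t : F, σ t ≠ t := by
      by_contra h3
      push Not at h3
      exact hσ (RingEquiv.ext h3)
    refine ⟨N, (c : F)⁻¹, c * c * l, inv_ne_zero c.ne_zero, fun v => ?_,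
      mul_ne_zero (mul_ne_zero c.ne_zero c.ne_zero) hl, hNs, hc,
      ⟨_, by rw [key t]; exact mul_ne_zero (sub_ne_zero.2 ht) hij⟩,
      fun _ => ⟨hord, _, hij, fun t => ⟨_, key t⟩⟩⟩
    rw [hNv, smul_smul, inv_mul_cancel₀ c.ne_zero, one_smul]

/-- **The pairs, both members semilinear.** -/
theorem core_semi (hm : 1 ≤ m) [CharP F 3] {σ τ : F ≃+* F} {l k : F} {n z : Equiv.Perm (VV m F)}
    (hn : IsSemi n σ l) (hz : IsSemi z τ k) (hστ : σ * τ = 1) (hσ : orderOf σ = 3)
    {r₀ : F} (hr₀ : r₀ ≠ 0) (hval : ∀ t, ∃ f, sympForm m F f (n f) = (σ t - t) * r₀)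
    (hu : ∃ u, sympForm m F u (z u) ≠ 0) :
    ∃ (A : Matrix.symplecticGroup (Fin m) F), ∀ k : ℕ,
      ¬ IsScal F ((n * (rho m F A * z * (rho m F A)⁻¹)) ^ 3 ^ k) := by
  have hF3 : Fact (Nat.Prime 3) := ⟨Nat.prime_three⟩
  have hσ3 : σ ^ 3 = 1 := by rw [← hσ, pow_orderOf_eq_one]
  have hσ1 : σ ≠ 1 := by
    rintro rfl
    rw [orderOf_one] at hσ
    omega
  by_contra hcon
  push Not at hcon
  obtain ⟨u, hu⟩ := hu
  set r := sympForm m F u (z u) with hr
  -- the general move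
  have move : ∀ w : F, w ≠ 0 → (∃ f, sympForm m F f (n f) = w) →
      l * σ k = (σ (-(r / w))) ^ 2 := by
    rintro w hw ⟨f, hf⟩
    obtain ⟨A, hA1, hA2⟩ := exists_rho (u := u) (v := z u) (u' := n f)
      (v' := (-(r / w)) • f) (by
        rw [← hr, sympForm_smul_right, sympForm_swap, hf]
        field_simp) hu
    obtain ⟨j, hj⟩ := hcon A
    have hx : IsSemi (n * (rho m F A * z * (rho m F A)⁻¹)) (σ * τ) (l * σ k) :=
      hn.mul (isSemi_conj hz A)
    have he : n f ≠ 0 := by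
      intro h0
      apply hw
      rw [← hf, h0, sympForm_zero_right]
    have hxe : (n * (rho m F A * z * (rho m F A)⁻¹)) (n f) = σ (-(r / w)) • n f := by
      change n (rho m F A (z ((rho m F A)⁻¹ (n f)))) = _
      have h4 : (rho m F A)⁻¹ (n f) = u := by
        rw [← hA1]
        exact (rho m F A).symm_apply_apply u
      rw [h4, hA2, hn.2.1]
    have h5 := mult_of_scal hm hx he hxe hj le_rfl
    rw [hστ] at h5
    have h6 : ∀ c : F, ∏ i ∈ Finset.range (3 ^ j), (((1 : F ≃+* F) ^ i) c) = c ^ 3 ^ j := by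
      intro c
      rw [Finset.prod_congr rfl (fun i _ => by rw [one_pow]; rfl :
        ∀ i ∈ Finset.range (3 ^ j), ((1 : F ≃+* F) ^ i) c = c),
        Finset.prod_const, Finset.card_range]
    rw [h6, h6, ← pow_mul, mul_comm (3 ^ j) 2, pow_mul] at h5
    exact iterateFrobenius_inj F 3 j h5
  obtain ⟨t, t', ht, ht', hne⟩ := exists_two_values hσ1 hσ3
  have m1 := move _ (mul_ne_zero ht hr₀) (hval t)
  have m2 := move _ (mul_ne_zero ht' hr₀) (hval t')
  rw [m1, ← map_pow, ← map_pow] at m2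
  have m3 := σ.injective m2
  apply hne
  have m4 : (r / ((σ t - t) * r₀)) ^ 2 = (r / ((σ t' - t') * r₀)) ^ 2 := by
    rw [neg_sq, neg_sq] at m3
    exact m3
  rw [div_pow, div_pow, div_eq_div_iff (pow_ne_zero _ (mul_ne_zero ht hr₀))
    (pow_ne_zero _ (mul_ne_zero ht' hr₀))] at m4
  have m5 := mul_left_cancel₀ (pow_ne_zero 2 hu) m4
  rw [mul_pow, mul_pow] at m5
  exact (mul_right_cancel₀ (pow_ne_zero 2 hr₀) m5).symm

theorem isScal_conj {A : Matrix.symplecticGroup (Fin m) F} {w : Equiv.Perm (VV m F)}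
    (h : IsScal F w) : IsScal F (rho m F A * w * (rho m F A)⁻¹) := by
  obtain ⟨a, ha⟩ := h
  refine ⟨a, fun v => ?_⟩
  change rho m F A (w ((rho m F A)⁻¹ v)) = _
  rw [ha, (isSemi_rho A).2.1]
  have : rho m F A ((rho m F A)⁻¹ v) = v := (rho m F A).apply_symm_apply v
  rw [this]
  rfl

/-- **The pairs.** -/
theorem core3 [Finite F] (hm : 1 ≤ m) [CharP F 3] {y z : Equiv.Perm (VV m F)}
    (hy : y ∈ semiSim m F) (hz : z ∈ semiSim m F) (hy3 : IsScal F (y ^ 3)) (hyn : ¬ IsScal F y)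
    (hz3 : IsScal F (z ^ 3)) (hzn : ¬ IsScal F z) :
    ∃ A : Matrix.symplecticGroup (Fin m) F,
      ∃ w ∈ Subgroup.closure ({y, rho m F A * z * (rho m F A)⁻¹} : Set (Equiv.Perm (VV m F))),
        ∀ k : ℕ, ¬ IsScal F (w ^ 3 ^ k) := by
  obtain ⟨σ, l, hl, hy⟩ := hy
  obtain ⟨τ, k, hk, hz⟩ := hz
  obtain ⟨a, ha⟩ := hy3
  obtain ⟨b, hb⟩ := hz3
  obtain ⟨n, c, l', hc, hyc, hl', hn, hn3, ⟨x, hx⟩, hσ⟩ := values3 hm hl hy ha hyn
  obtain ⟨n', c', l'', hc', hzc, hl'', hn', hn3', ⟨u, hu⟩, hτ⟩ := values3 hm hk hz hb hzn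
  by_cases h1 : σ = 1
  · subst h1
    exact core_lin hc hl hy hyc hn hn3 hx hk hz hc' hzc hn' hn3' hu
  by_cases h2 : τ = 1
  · subst h2
    obtain ⟨A, w, hw, h⟩ := core_lin hc' hk hz hzc hn' hn3' hu hl hy hc hyc hn hn3 hx
    refine ⟨A⁻¹, (rho m F A)⁻¹ * w * rho m F A, ?_, fun j hj => h j ?_⟩
    · have h4 : (rho m F A)⁻¹ * w * rho m F A = MulAut.conj (rho m F A)⁻¹ w := by simp
      have h5 : w ∈ (Subgroup.closure ({y, rho m F A⁻¹ * z * (rho m F A⁻¹)⁻¹} :
          Set (Equiv.Perm (VV m F)))).comap (MulAut.conj (rho m F A)⁻¹).toMonoidHom := by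
        have h6 : Subgroup.closure ({z, rho m F A * y * (rho m F A)⁻¹} :
            Set (Equiv.Perm (VV m F))) ≤ (Subgroup.closure
              ({y, rho m F A⁻¹ * z * (rho m F A⁻¹)⁻¹} : Set (Equiv.Perm (VV m F)))).comap
                (MulAut.conj (rho m F A)⁻¹).toMonoidHom := by
          rw [Subgroup.closure_le]
          rintro g (rfl | hg)
          · rw [SetLike.mem_coe, Subgroup.mem_comap]
            apply Subgroup.subset_closure
            right
            rw [Set.mem_singleton_iff, map_inv (rho m F) A, MulEquiv.coe_toMonoidHom,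
              MulAut.conj_apply]
          · rw [Set.mem_singleton_iff] at hg
            rw [hg, SetLike.mem_coe, Subgroup.mem_comap]
            apply Subgroup.subset_closure
            left
            rw [MulEquiv.coe_toMonoidHom, MulAut.conj_apply]
            group
        exact h6 hw
      rw [h4]
      exact h5
    · have h4 : w ^ 3 ^ j = rho m F A * ((rho m F A)⁻¹ * w * rho m F A) ^ 3 ^ j *
          (rho m F A)⁻¹ := by
        rw [show (rho m F A)⁻¹ * w * rho m F A = (rho m F A)⁻¹ * w * ((rho m F A)⁻¹)⁻¹ by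
          rw [inv_inv], conj_pow]
        group
      rw [h4]
      exact isScal_conj hj
  · obtain ⟨hσ3, r₀, hr₀, hval⟩ := hσ h1
    obtain ⟨hτ3, -⟩ := hτ h2
    obtain ⟨j, hj⟩ := exists_pow_eq_inv hσ3 hτ3
    have hzj := isSemi_pow hz j
    have hkj : ∏ i ∈ Finset.range j, (τ ^ i) k ≠ 0 := by
      rw [Finset.prod_ne_zero_iff]
      intro i _
      rwa [Ne, EmbeddingLike.map_eq_zero_iff]
    have hzj3 : ∀ v, ((z ^ j) ^ 3) v = b ^ j • v := by
      intro v
      rw [← pow_mul, mul_comm, pow_mul, pow_scal hb]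
    have hzjn : ¬ IsScal F (z ^ j) := by
      rintro ⟨s, hs⟩
      have h4 : IsSemi (z ^ j) (1 : F ≃+* F) (s * s) := by
        refine ⟨fun u v => ?_, fun t v => ?_, fun u v => ?_⟩
        · rw [hs, hs, hs, smul_add]
        · rw [hs, hs, smul_comm]
          rfl
        · rw [hs, hs, sympForm_smul_left, sympForm_smul_right]
          change _ = s * s * sympForm m F u v
          ring
      have h5 := (IsSemi.unique hm hzj h4).1
      rw [h5, mul_one] at hj
      exact h1 hj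
    obtain ⟨n₂, c₂, l₂, hc₂, hzc₂, -, hn₂, -, ⟨u₂, hu₂⟩, -⟩ := values3 hm hkj hzj hzj3 hzjn
    obtain ⟨A, hA⟩ := core_semi hm hn hzj hj hσ3 hr₀ hval ⟨u₂, by
      rw [hzc₂, sympForm_smul_right]
      exact mul_ne_zero hc₂ hu₂⟩
    refine ⟨A, y * (rho m F A * z * (rho m F A)⁻¹) ^ j, mul_mem (Subgroup.subset_closure (by simp))
      (pow_mem (Subgroup.subset_closure (by simp)) _), fun i => ?_⟩
    have hyn' : Scl F y n := ⟨c, hc, hyc⟩
    rw [conj_pow]
    have h5 : Scl F (y * (rho m F A * z ^ j * (rho m F A)⁻¹))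
        (n * (rho m F A * z ^ j * (rho m F A)⁻¹)) := hyn'.mul (toSemi5 hn) (Scl.refl _)
    have h6 := h5.pow (toSemi5 (hn.mul (isSemi_conj hzj A))) (3 ^ i)
    rw [h6.isScal_iff]
    exact hA i

/-- **The weak row `PSp_2m(q)` in characteristic 3.** -/
theorem wrow_psp {F : Type} [Field F] [Fintype F] {m : ℕ} (hm : 2 ≤ m) [CharP F 3] :
    Cfsg.Agent.H533.T5.WRow 3 (Cfsg.PSp m F) := by
  have hp : Nat.Prime 3 := Nat.prime_three
  have hF3 : Fact (Nat.Prime 3) := ⟨hp⟩
  have hpp2 : (3 : ℕ) ≠ 2 := by omega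
  have hne : Nonempty (Fin m ⊕ Fin m) := ⟨Sum.inl ⟨0, by omega⟩⟩
  have : Nontrivial (VV m F) := Function.nontrivial
  have h2 : m = 2 → 3 ≤ Fintype.card F := fun _ =>
    Cfsg.Agent.CpAut.PspRow.card_ge hp hpp2
  have hπ : Function.Surjective
      (QuotientGroup.mk' (Subgroup.center (Matrix.symplecticGroup (Fin m) F))) :=
    QuotientGroup.mk'_surjective _
  have hfinS : Finite (Matrix.symplecticGroup (Fin m) F) := inferInstance
  have hfinT : Finite (Cfsg.PSp m F) := Finite.of_surjective _ hπ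
  refine wrow_of (F := F) (T := Cfsg.PSp m F) hp
    (π := QuotientGroup.mk' (Subgroup.center (Matrix.symplecticGroup (Fin m) F))) hπ
    (ρ := rho m F) rho_injective (fun s => toSemi5 (isSemi_rho s))
    (W := semiSim m F) (fun s => ⟨_, _, one_ne_zero, isSemi_rho s⟩) ?_ ?_ ?_
  · intro β hβ
    obtain ⟨g, rfl⟩ := Cfsg.Agent.H513.MeetPSp.mem_range hm h2 β (hp.odd_of_ne_two hpp2) (by
      rw [← hβ]; exact pow_orderOf_eq_one β)
    exact ⟨g, g.2, Cfsg.Agent.H513.MeetPSp.ind_Psi g⟩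
  · intro y hy' hind
    have h1 : Psi m F ⟨y, hy'⟩ = 1 :=
      Cfsg.Agent.H903.SylSemi.Ind.unique hπ rho_injective
        (Cfsg.Agent.H513.MeetPSp.ind_Psi ⟨y, hy'⟩) hind
    obtain ⟨a, ha⟩ := exists_scal_of_Psi_eq_one (by omega) _ h1
    exact ⟨a, fun v => DFunLike.congr_fun ha v⟩
  · intro y z hy hz hy3 hyn hz3 hzn
    exact core3 (by omega) hy hz hy3 hyn hz3 hzn

universe u v

/-- **The row `PSp_2m(q)`, `q` a power of 3, of S3826.** -/
theorem wf_psp_own {K : Type v} [Group K] [Finite K] [IsSimpleGroup K] {F : Type} [Field F]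
    [Fintype F] [CharP F 3] {m : ℕ} (hm : 2 ≤ m) (e : Nonempty (K ≃* Cfsg.PSp m F)) :
    Cfsg.Agent.H533.Wf.WfRow.{u, v} 3 K := by
  obtain ⟨e⟩ := e
  have hF3 : Fact (Nat.Prime 3) := ⟨Nat.prime_three⟩
  exact Cfsg.Agent.H533.Wf.WfRow.of_wrow
    (Cfsg.Agent.H164.RowCongr.wrow_congr e.symm (wrow_psp hm))

end Cfsg.Agent.H450.Wf.Sp
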